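import Mathlib.RingTheory.Flat.EquationalCriterion
import Mathlib.RingTheory.Filtration
import Mathlib.RingTheory.FiniteStability
import Mathlib.RingTheory.Localization.Submodule
import Mathlib.LinearAlgebra.Basis.VectorSpace
import Mathlib.RingTheory.LocalRing.Quotient
import Mathlib.LinearAlgebra.TensorProduct.Basis
import Mathlib.LinearAlgebra.TensorProduct.RightExactness
import Mathlib.RingTheory.LocalRing.ResidueField.Basic
import Mathlib.RingTheory.TensorProduct.Basic
import Mathlib.RingTheory.Localization.AtPrime.Basic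
import Mathlib.RingTheory.Ideal.Quotient.Operations

/-!
# A fibrewise schematically dense family of flat algebras is schematically dense over Noetherian bases
-/

universe u

open TensorProduct

set_option maxHeartbeats 400000

namespace Groth.Agent.DiagRig.DenseFam

/-- Detection by a family survives extensions of the field. -/
theorem detect_extend {R k K B : Type u} [CommRing R] [Field k] [Field K] [Algebra R k] [Algebra R K]
    [Algebra k K] [IsScalarTower R k K] [CommRing B] [Algebra R B] {ι : Type u} {C : ι → Type u}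
    [∀ i, CommRing (C i)] [∀ i, Algebra R (C i)] (φ : ∀ i, B →ₐ[R] C i)
    (h : ∀ w : k ⊗[R] B, (∀ i, Algebra.TensorProduct.map (AlgHom.id R k) (φ i) w = 0) → w = 0)
    (w : K ⊗[R] B) (hw : ∀ i, Algebra.TensorProduct.map (AlgHom.id R K) (φ i) w = 0) : w = 0 := by
  classical
  let b := Module.Basis.ofVectorSpace k K
  let eB := Algebra.TensorProduct.cancelBaseChange R k k K B
  obtain ⟨v, rfl⟩ := eB.surjective w
  suffices v = 0 by rw [this, map_zero]
  apply (TensorProduct.equivFinsuppOfBasisLeft (N := k ⊗[R] B) b).injective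
  rw [map_zero]
  ext l
  rw [Finsupp.zero_apply]
  refine h _ fun i => ?_
  let eC := Algebra.TensorProduct.cancelBaseChange R k k K (C i)
  let φk : k ⊗[R] B →ₐ[k] k ⊗[R] C i := Algebra.TensorProduct.map (AlgHom.id k k) (φ i)
  have key : ∀ v : K ⊗[k] (k ⊗[R] B),
      eC (Algebra.TensorProduct.map (AlgHom.id k K) φk v) =
        Algebra.TensorProduct.map (AlgHom.id R K) (φ i) (eB v) := by
    intro v
    induction v using TensorProduct.induction_on with
    | zero => simp
    | add x y hx hy => simp [map_add, hx, hy]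
    | tmul x y =>
      induction y using TensorProduct.induction_on with
      | zero => simp
      | add y y' hy hy' =>
        rw [TensorProduct.tmul_add, map_add, map_add, map_add, map_add, hy, hy']
      | tmul s z =>
        rw [Algebra.TensorProduct.map_tmul, Algebra.TensorProduct.map_tmul, Algebra.TensorProduct.cancelBaseChange_tmul,
          Algebra.TensorProduct.cancelBaseChange_tmul, Algebra.TensorProduct.map_tmul]
        rfl
  have hnat : ∀ v : K ⊗[k] (k ⊗[R] B),
      TensorProduct.equivFinsuppOfBasisLeft b (Algebra.TensorProduct.map (AlgHom.id k K) φk v) l =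
        φk (TensorProduct.equivFinsuppOfBasisLeft b v l) := by
    intro v
    induction v using TensorProduct.induction_on with
    | zero => simp
    | add x y hx hy => simp [map_add, hx, hy]
    | tmul x y => simp
  show φk _ = 0
  rw [← hnat]
  have : Algebra.TensorProduct.map (AlgHom.id k K) φk v = 0 := eC.injective (by rw [key, hw, map_zero])
  rw [this, map_zero, Finsupp.zero_apply]

variable {R A : Type u} [CommRing R] [CommRing A] [Algebra R A] {B : Type u} [CommRing B] [Algebra R B]
  {ι : Type u} {C : ι → Type u} [∀ i, CommRing (C i)] [∀ i, Algebra R (C i)] [∀ i, Module.Flat R (C i)]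
  (φ : ∀ i, B →ₐ[R] C i)

/-- Over a local ring: an element killed in every member lies in all powers of the maximal ideal. -/
theorem mem_pow [IsLocalRing A] [IsNoetherianRing A]
    (hκ : ∀ w : IsLocalRing.ResidueField A ⊗[R] B,
      (∀ i, Algebra.TensorProduct.map (AlgHom.id R (IsLocalRing.ResidueField A)) (φ i) w = 0) → w = 0)
    (z : A ⊗[R] B) (hz : ∀ i, Algebra.TensorProduct.map (AlgHom.id R A) (φ i) z = 0) (k : ℕ) :
    z ∈ (IsLocalRing.maximalIdeal A ^ k).map (algebraMap A (A ⊗[R] B)) := by
  classical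
  induction k with
  | zero =>
    rw [pow_zero, Ideal.one_eq_top, Ideal.map_top]
    exact Submodule.mem_top
  | succ k ih =>
    let m := IsLocalRing.maximalIdeal A
    have hex : ∃ n : ℕ, ∃ a : Fin n → A, Ideal.span (Set.range a) = m ^ k := by
      obtain ⟨n, a, ha⟩ := Submodule.fg_iff_exists_fin_generating_family.mp (IsNoetherian.noetherian (m ^ k : Ideal A))
      exact ⟨n, a, ha⟩
    obtain ⟨n₀, a, ha, hfind⟩ : ∃ n₀, ∃ a : Fin n₀ → A, Ideal.span (Set.range a) = m ^ k ∧
        ∀ n' < n₀, ¬ ∃ a' : Fin n' → A, Ideal.span (Set.range a') = m ^ k := by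
      obtain ⟨a, ha⟩ := Nat.find_spec hex
      exact ⟨_, a, ha, fun n' h => Nat.find_min hex h⟩
    -- relations among minimal generators have coefficients in the maximal ideal
    have hmin : ∀ r : Fin n₀ → A, ∑ j, a j * r j = 0 → ∀ j, r j ∈ m := by
      intro r hr j
      by_contra hj
      obtain ⟨v, hv⟩ := (IsLocalRing.notMem_maximalIdeal.mp hj).exists_right_inv
      have hlt : (Finset.univ.erase j).card < n₀ := by
        rw [Finset.card_erase_of_mem (Finset.mem_univ j), Finset.card_univ, Fintype.card_fin]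
        exact Nat.sub_lt (Fin.pos j) Nat.one_pos
      refine hfind _ hlt ⟨fun t => a ((Finset.univ.erase j).equivFin.symm t).1, ?_⟩
      refine le_antisymm ?_ ?_
      · rw [← ha]
        exact Ideal.span_mono (fun _ ⟨t, ht⟩ => ⟨_, ht⟩)
      · rw [← ha, Ideal.span_le]
        rintro _ ⟨i, rfl⟩
        let S' := Ideal.span (Set.range fun t => a ((Finset.univ.erase j).equivFin.symm t).1)
        have hmem : ∀ i, i ≠ j → a i ∈ S' := fun i hi =>
          Ideal.subset_span ⟨(Finset.univ.erase j).equivFin ⟨i, Finset.mem_erase.mpr ⟨hi, Finset.mem_univ _⟩⟩, by simp⟩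
        rcases ne_or_eq i j with hi | rfl
        · exact hmem i hi
        · rw [← Finset.add_sum_erase _ _ (Finset.mem_univ i)] at hr
          have h1 : a i * r i ∈ S' := by
            rw [eq_neg_of_add_eq_zero_left hr]
            exact neg_mem (Ideal.sum_mem _ fun t ht => Ideal.mul_mem_right _ _ (hmem t (Finset.mem_erase.mp ht).1))
          have h2 := Ideal.mul_mem_right v S' h1
          rwa [mul_assoc, hv, mul_one] at h2
    obtain ⟨y, hy⟩ : ∃ y : Fin n₀ → A ⊗[R] B, ∑ j, y j * algebraMap A (A ⊗[R] B) (a j) = z := by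
      rw [← Ideal.mem_span_range_iff_exists_fun, Set.range_comp', ← Ideal.map_span, ha]
      exact ih
    let π : A →ₐ[R] IsLocalRing.ResidueField A := IsScalarTower.toAlgHom R A (IsLocalRing.ResidueField A)
    have hker : ∀ {M : Type u} [CommRing M] [Algebra R M], RingHom.ker (Algebra.TensorProduct.map π (AlgHom.id R M)) =
        m.map (algebraMap A (A ⊗[R] M)) := by
      intro M _ _
      rw [Algebra.TensorProduct.rTensor_ker π Ideal.Quotient.mk_surjective,
        show RingHom.ker π = m from IsLocalRing.ker_residue]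
      rfl
    have hyb : ∀ j, y j ∈ m.map (algebraMap A (A ⊗[R] B)) := by
      intro j
      rw [← hker, RingHom.mem_ker]
      refine hκ _ fun i => ?_
      have h0 : ∑ j, a j • Algebra.TensorProduct.map (AlgHom.id R A) (φ i) (y j) = 0 := by
        have h := hz i
        rw [← hy, map_sum] at h
        rw [← h]
        refine Finset.sum_congr rfl fun t _ => ?_
        rw [map_mul, Algebra.smul_def, mul_comm]
        congr 1
        rw [Algebra.TensorProduct.algebraMap_apply, Algebra.TensorProduct.algebraMap_apply,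
          Algebra.TensorProduct.map_tmul, map_one]
        rfl
      obtain ⟨n', r, d, hcd, hrel⟩ := Module.Flat.isTrivialRelation_of_sum_smul_eq_zero h0
      have hc : Algebra.TensorProduct.map (AlgHom.id R A) (φ i) (y j) ∈ m.map (algebraMap A (A ⊗[R] C i)) := by
        rw [show Algebra.TensorProduct.map (AlgHom.id R A) (φ i) (y j) = _ from hcd j]
        refine Ideal.sum_mem _ fun t _ => ?_
        rw [Algebra.smul_def]
        exact Ideal.mul_mem_right _ _ (Ideal.mem_map_of_mem _ (hmin (fun j => r j t) (hrel t) j))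
      rw [← hker, RingHom.mem_ker, ← AlgHom.comp_apply, ← Algebra.TensorProduct.map_comp] at hc
      rw [← AlgHom.comp_apply, ← Algebra.TensorProduct.map_comp]
      simp only [AlgHom.comp_id, AlgHom.id_comp] at hc ⊢
      exact hc
    rw [← hy]
    refine Ideal.sum_mem _ fun j _ => ?_
    rw [pow_succ', Ideal.map_mul]
    exact Ideal.mul_mem_mul (hyb j) (Ideal.mem_map_of_mem _ (ha ▸ Ideal.subset_span ⟨j, rfl⟩))

/-- An element killed in every member of the family vanishes. -/
theorem eq_zero_of_dense [IsNoetherianRing A] [Algebra.FiniteType R B]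
    (hκ : ∀ (P : Ideal A) [P.IsPrime] (w : IsLocalRing.ResidueField (Localization.AtPrime P) ⊗[R] B),
      (∀ i, Algebra.TensorProduct.map (AlgHom.id R (IsLocalRing.ResidueField (Localization.AtPrime P))) (φ i) w = 0) →
        w = 0)
    (z : A ⊗[R] B) (hz : ∀ i, Algebra.TensorProduct.map (AlgHom.id R A) (φ i) z = 0) : z = 0 := by
  by_contra hne
  let Ann : Ideal (A ⊗[R] B) := (⊥ : Ideal (A ⊗[R] B)).colon {z}
  have hAnn : ∀ {c}, c ∈ Ann ↔ c * z = 0 := fun {c} => by
    rw [Submodule.mem_colon_singleton, Submodule.mem_bot, smul_eq_mul]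
  obtain ⟨M, hM, hle⟩ := Ideal.exists_le_maximal Ann fun h => hne (by
    have := hAnn.mp (h ▸ Submodule.mem_top (x := (1 : A ⊗[R] B)))
    rwa [one_mul] at this)
  let P : Ideal A := M.comap (algebraMap A (A ⊗[R] B))
  let A' := Localization.AtPrime P
  let ι' : A →ₐ[R] A' := IsScalarTower.toAlgHom R A A'
  let e : A ⊗[R] B →ₐ[R] A' ⊗[R] B := Algebra.TensorProduct.map ι' (AlgHom.id R B)
  have hz' : ∀ i, Algebra.TensorProduct.map (AlgHom.id R A') (φ i) (e z) = 0 := fun i => by
    have h1 : (Algebra.TensorProduct.map (AlgHom.id R A') (φ i)).comp e =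
        (Algebra.TensorProduct.map ι' (AlgHom.id R (C i))).comp (Algebra.TensorProduct.map (AlgHom.id R A) (φ i)) := by
      rw [← Algebra.TensorProduct.map_comp, ← Algebra.TensorProduct.map_comp, AlgHom.comp_id, AlgHom.id_comp,
        AlgHom.comp_id, AlgHom.id_comp]
    have h2 := AlgHom.congr_fun h1 z
    rw [AlgHom.comp_apply, AlgHom.comp_apply, hz i, map_zero] at h2
    exact h2
  have hpow := mem_pow φ (hκ P) (e z) hz'
  let mB := (IsLocalRing.maximalIdeal A').map (algebraMap A' (A' ⊗[R] B))
  have : IsNoetherianRing A' := IsLocalization.isNoetherianRing P.primeCompl A' ‹_›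
  have : IsNoetherianRing (A' ⊗[R] B) := Algebra.FiniteType.isNoetherianRing A' (A' ⊗[R] B)
  have hmem : e z ∈ (⨅ k : ℕ, mB ^ k • ⊤ : Submodule (A' ⊗[R] B) (A' ⊗[R] B)) := by
    refine (Submodule.mem_iInf _).mpr fun k => ?_
    rw [smul_eq_mul, Ideal.mul_top, ← Ideal.map_pow]
    exact hpow k
  obtain ⟨⟨r, hr⟩, hrz⟩ := (Ideal.mem_iInf_smul_pow_eq_bot_iff mB (e z)).mp hmem
  let L := Localization.AtPrime M
  have hu : ∀ s : P.primeCompl, IsUnit ((IsScalarTower.toAlgHom R A L) s.1) := fun s => by
    have : algebraMap A (A ⊗[R] B) s.1 ∈ M.primeCompl := s.2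
    have h := IsLocalization.map_units L (⟨_, this⟩ : M.primeCompl)
    rwa [← IsScalarTower.algebraMap_apply] at h
  let lA : A' →ₐ[R] L := IsLocalization.liftAlgHom (M := P.primeCompl) (S := A') hu
  let lB : B →ₐ[R] L := (IsScalarTower.toAlgHom R (A ⊗[R] B) L).comp Algebra.TensorProduct.includeRight
  let l : A' ⊗[R] B →ₐ[R] L := Algebra.TensorProduct.lift lA lB fun _ _ => Commute.all _ _
  have hl : l.comp e = IsScalarTower.toAlgHom R (A ⊗[R] B) L := by
    refine Algebra.TensorProduct.ext (AlgHom.ext fun x => ?_) (AlgHom.ext fun x => ?_)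
    · show l (e (x ⊗ₜ 1)) = algebraMap (A ⊗[R] B) L (x ⊗ₜ 1)
      rw [Algebra.TensorProduct.map_tmul, Algebra.TensorProduct.lift_tmul]
      simp [lA, lB, ι', IsScalarTower.algebraMap_apply A (A ⊗[R] B) L, Algebra.TensorProduct.algebraMap_apply]
      rw [← map_mul, Algebra.TensorProduct.tmul_mul_tmul, mul_one, mul_one]
    · show l (e ((1 : A) ⊗ₜ x)) = algebraMap (A ⊗[R] B) L ((1 : A) ⊗ₜ x)
      rw [Algebra.TensorProduct.map_tmul, Algebra.TensorProduct.lift_tmul]
      simp [lA, lB]
  have hrL : l r ∈ IsLocalRing.maximalIdeal L := by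
    have hle' : mB ≤ (IsLocalRing.maximalIdeal L).comap l := by
      rw [Ideal.map_le_iff_le_comap]
      intro a ha
      obtain ⟨⟨x, s⟩, hxs⟩ := IsLocalization.surj P.primeCompl a
      show l (a ⊗ₜ[R] (1 : B)) ∈ IsLocalRing.maximalIdeal L
      rw [Algebra.TensorProduct.lift_tmul, map_one, mul_one]
      have hx : x ∈ P := by
        have h : algebraMap A A' x ∈ IsLocalRing.maximalIdeal A' := hxs ▸ Ideal.mul_mem_right _ _ ha
        rwa [IsLocalization.AtPrime.to_map_mem_maximal_iff A' P] at h
      have h1 := congrArg lA hxs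
      rw [map_mul] at h1
      have h2 : lA (algebraMap A A' x) ∈ IsLocalRing.maximalIdeal L := by
        simp only [lA, IsLocalization.liftAlgHom_apply, IsLocalization.lift_eq]
        show algebraMap A L x ∈ _
        rw [IsScalarTower.algebraMap_apply A (A ⊗[R] B) L, IsLocalization.AtPrime.to_map_mem_maximal_iff L M]
        exact hx
      rw [← h1] at h2
      refine ((IsLocalRing.maximalIdeal.isMaximal L).isPrime.mem_or_mem h2).resolve_right fun h3 => ?_
      exact (IsLocalRing.notMem_maximalIdeal.mpr ((IsLocalization.map_units A' s).map lA)) h3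
    exact hle' hr
  have h0 : algebraMap (A ⊗[R] B) L z = 0 := by
    have h1 := congrArg l hrz
    change l (r * e z) = l (e z) at h1
    rw [map_mul, show l (e z) = algebraMap (A ⊗[R] B) L z from AlgHom.congr_fun hl z] at h1
    have hunit : IsUnit (1 - l r) := IsLocalRing.isUnit_one_sub_self_of_mem_nonunits _ hrL
    refine (hunit.mul_right_eq_zero).mp ?_
    rw [sub_mul, one_mul, h1, sub_self]
  obtain ⟨⟨c, hc⟩, hcz⟩ := (IsLocalization.map_eq_zero_iff M.primeCompl L z).mp h0
  exact hc (hle (hAnn.mpr hcz))

end Groth.Agent.DiagRig.DenseFam
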