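import Groth.Agent.DiagRig.DenseFam.Lands
import Groth.Agent.HomSch.LocFree

/-!
# The locus where a flat finite dense family lands in a closed subscheme
-/

set_option autoImplicit false

universe u

open CategoryTheory Limits AlgebraicGeometry

noncomputable section

set_option backward.isDefEq.respectTransparency.types false
set_option maxHeartbeats 600000

namespace Groth.Agent.DiagRig.DenseFam

variable {S X G X' Y : Scheme.{u}} (p : X ⟶ S) (pG : G ⟶ S) (a : pullback p pG ⟶ X') (y : Y ⟶ X')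

/-- Over `g`, the part `z` of `X` is sent into `Y` by `a`. -/
def Cond {X₀ : Scheme.{u}} (z : X₀ ⟶ X) ⦃T : Scheme.{u}⦄ (g : T ⟶ G) : Prop :=
  ∀ (Q : Scheme.{u}) (h : Q ⟶ X₀) (x : Q ⟶ T) (w : (h ≫ z) ≫ p = (x ≫ g) ≫ pG),
    ∃ l : Q ⟶ Y, l ≫ y = pullback.lift (h ≫ z) (x ≫ g) w ≫ a

variable {p pG a y}

theorem Cond.comp {X₀ : Scheme.{u}} {z : X₀ ⟶ X} {T T' : Scheme.{u}} (c : T' ⟶ T) {g : T ⟶ G}
    (hg : Cond p pG a y z g) : Cond p pG a y z (c ≫ g) := by
  intro Q h x w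
  obtain ⟨l, hl⟩ := hg Q h (x ≫ c) (by rw [Category.assoc x c g]; exact w)
  refine ⟨l, hl.trans ?_⟩
  simp only [Category.assoc]

theorem Cond.precomp {X₀ X₁ : Scheme.{u}} {z : X₀ ⟶ X} {z₁ : X₁ ⟶ X} (c : X₁ ⟶ X₀) (hc : c ≫ z = z₁)
    {T : Scheme.{u}} {g : T ⟶ G} (hg : Cond p pG a y z g) : Cond p pG a y z₁ g := by
  subst hc
  intro Q h x w
  obtain ⟨l, hl⟩ := hg Q (h ≫ c) x (by rw [Category.assoc h c z]; exact w)
  refine ⟨l, hl.trans ?_⟩
  simp only [Category.assoc]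

variable (p pG a y)

/-- For a finite flat part, the locus is closed. -/
theorem exists_closed_piece [IsLocallyNoetherian S] [IsClosedImmersion y] {X₀ : Scheme.{u}} (z : X₀ ⟶ X)
    [IsFinite (z ≫ p)] [Flat (z ≫ p)] :
    ∃ (T : Scheme.{u}) (t : T ⟶ G), IsClosedImmersion t ∧
      ∀ (T' : Scheme.{u}) (g : T' ⟶ G), Cond p pG a y z g ↔ ∃ l : T' ⟶ T, l ≫ t = g := by
  let φ : pullback pG (z ≫ p) ⟶ X' :=
    pullback.lift (pullback.snd pG (z ≫ p) ≫ z) (pullback.fst pG (z ≫ p))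
      (by rw [Category.assoc]; exact pullback.condition.symm) ≫ a
  obtain ⟨T, t, ht, hT⟩ := GrpScheme.ClosedRepProd.exists_closed pG (z ≫ p) (pullback.fst φ y)
    (HomSch.locallyFree (z ≫ p))
  refine ⟨T, t, ht, fun T' g => Iff.trans ⟨fun hg Q q q' hq => ?_, fun hg Q h x w => ?_⟩
    ((hT T' g).trans Iff.rfl)⟩
  · have e : ((q ≫ pullback.snd _ _) ≫ z) ≫ p = (q' ≫ g) ≫ pG := by
      rw [← hq, Category.assoc, Category.assoc, Category.assoc, pullback.condition]
    obtain ⟨l, hl⟩ := hg Q (q ≫ pullback.snd _ _) q' e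
    refine ⟨pullback.lift q l ?_, pullback.lift_fst _ _ _⟩
    rw [hl]
    simp only [φ, ← Category.assoc]
    congr 1
    refine pullback.hom_ext ?_ ?_
    · rw [Category.assoc, pullback.lift_fst, pullback.lift_fst, Category.assoc]
    · rw [Category.assoc, pullback.lift_snd, pullback.lift_snd, hq]
  · let q : Q ⟶ pullback pG (z ≫ p) := pullback.lift (x ≫ g) h (by rw [← w, Category.assoc])
    obtain ⟨l, hl⟩ := hg q x (pullback.lift_fst _ _ _)
    refine ⟨l ≫ pullback.snd φ y, ?_⟩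
    rw [Category.assoc, ← pullback.condition, ← Category.assoc, hl]
    simp only [φ, ← Category.assoc]
    congr 1
    refine pullback.hom_ext ?_ ?_
    · rw [Category.assoc, pullback.lift_fst, pullback.lift_fst, ← Category.assoc, pullback.lift_snd]
    · rw [Category.assoc, pullback.lift_snd, pullback.lift_snd, pullback.lift_fst]

variable {ι : Type u} {Z : ι → Scheme.{u}} (z : ∀ i, Z i ⟶ X)

/-- The whole of `X` lands if all members of a finite flat dense family do. -/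
theorem exists_closed_forall [IsLocallyNoetherian S] [LocallyOfFiniteType p] [LocallyOfFiniteType pG]
    [IsClosedImmersion y] [∀ i, IsFinite (z i ≫ p)] [∀ i, Flat (z i ≫ p)]
    (hd : ∀ (s : S) (V : (p.fiber s).Opens) (t : Γ(p.fiber s, V)),
      (∀ i, (MoreMor.fiberMap (z i) p s).app V t = 0) → t = 0) :
    ∃ (T : Scheme.{u}) (t : T ⟶ G), IsClosedImmersion t ∧ ∀ (T' : Scheme.{u}) (g : T' ⟶ G),
      (Cond p pG a y (𝟙 X) g ↔ ∃ l : T' ⟶ T, l ≫ t = g) ∧
        (Cond p pG a y (𝟙 X) g ↔ ∀ i, Cond p pG a y (z i) g) := by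
  choose Tᵢ tᵢ htᵢ hTᵢ using fun i => exists_closed_piece p pG a y (z i)
  let Φ : ∀ ⦃T : Scheme.{u}⦄, (T ⟶ G) → Prop := fun _ g => ∀ i, Cond p pG a y (z i) g
  have hΦ : GrpScheme.ClosedRep.IsGood Φ :=
    { comp := fun c g hg i => (hg i).comp c
      glue := fun {T} 𝒰 g hg i => (hTᵢ i T g).mpr (by
        have := htᵢ i
        refine WeilLocus.exists_lift_of_pointwise (tᵢ i) g fun x => ?_
        obtain ⟨j, x', hx'⟩ := 𝒰.exists_eq x
        obtain ⟨l, hl⟩ := (hTᵢ i _ _).mp (hg j i)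
        exact ⟨_, 𝒰.f j, l, inferInstance, ⟨x', hx'⟩, hl⟩) }
  have hrep : ∀ U : G.affineOpens, GrpScheme.ClosedRep.IsRep Φ U := fun U => by
    choose I hI using fun i =>
      (have := htᵢ i; GrpScheme.ClosedRepProd.exists_ideal_factor (tᵢ i) Γ(G, U) U.2.fromSpec)
    refine ⟨⨆ i, I i, fun C φ => ?_⟩
    rw [iSup_le_iff]
    exact forall_congr' fun i => (hTᵢ i _ _).trans (hI i C φ)
  obtain ⟨T, t, ht, hT⟩ := GrpScheme.ClosedRep.exists_closed hΦ fun U x hx =>
    ⟨1, by rw [Scheme.basicOpen_of_isUnit _ isUnit_one]; exact hx, hrep _⟩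
  have : IsLocallyNoetherian T := LocallyOfFiniteType.isLocallyNoetherian (t ≫ pG)
  have hall : Cond p pG a y (𝟙 X) t := by
    let m : pullback p (t ≫ pG) ⟶ pullback p pG :=
      pullback.lift (pullback.fst _ _) (pullback.snd _ _ ≫ t) (by rw [Category.assoc]; exact pullback.condition)
    obtain ⟨l, hl⟩ := lands_of_pieces p z hd (t ≫ pG) (m ≫ a) y fun i Q h x e => by
      obtain ⟨l, hl⟩ := ((hT T t).mpr ⟨𝟙 T, Category.id_comp t⟩) i Q h x (e.trans (Category.assoc _ _ _).symm)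
      refine ⟨l, hl.trans (Eq.trans (congrArg (· ≫ a) ?_) (Category.assoc _ _ _))⟩
      refine pullback.hom_ext ?_ ?_
      · simp only [m, Category.assoc, pullback.lift_fst]
      · simp only [m, Category.assoc, pullback.lift_snd, pullback.lift_snd_assoc]
    intro Q h x w
    refine ⟨pullback.lift (h ≫ 𝟙 X) x (by rw [w, Category.assoc]) ≫ l, ?_⟩
    rw [Category.assoc, hl, ← Category.assoc]
    congr 1
    refine pullback.hom_ext ?_ ?_
    · simp only [m, Category.assoc, pullback.lift_fst]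
    · simp only [m, Category.assoc, pullback.lift_snd, pullback.lift_snd_assoc]
  have key : ∀ (T' : Scheme.{u}) (g : T' ⟶ G), Cond p pG a y (𝟙 X) g ↔ ∀ i, Cond p pG a y (z i) g :=
    fun T' g => ⟨fun hg i => hg.precomp (z i) (Category.comp_id _), fun hg => by
      obtain ⟨l, rfl⟩ := (hT T' g).mp hg
      exact hall.comp l⟩
  exact ⟨T, t, ht, fun T' g => ⟨(key T' g).trans (hT T' g), key T' g⟩⟩

/-- Over a Noetherian base, a directed family is governed by one member. -/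
theorem exists_uniform [IsLocallyNoetherian S] [AlgebraicGeometry.IsNoetherian G] [IsClosedImmersion y]
    [∀ i, IsFinite (z i ≫ p)] [∀ i, Flat (z i ≫ p)] [Nonempty ι]
    (hdir : ∀ i j, ∃ (k : ι) (ci : Z i ⟶ Z k) (cj : Z j ⟶ Z k), ci ≫ z k = z i ∧ cj ≫ z k = z j) :
    ∃ n, ∀ (T' : Scheme.{u}) (g : T' ⟶ G), Cond p pG a y (z n) g → ∀ i, Cond p pG a y (z i) g := by
  classical
  choose Tᵢ tᵢ htᵢ hTᵢ using fun i => exists_closed_piece p pG a y (z i)
  -- one member governs on each affine open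
  have hU : ∀ U : G.affineOpens, ∃ k, ∀ (C : CommRingCat.{u}) (φ : Γ(G, U) ⟶ C),
      Cond p pG a y (z k) (Spec.map φ ≫ U.2.fromSpec) → ∀ i, Cond p pG a y (z i) (Spec.map φ ≫ U.2.fromSpec) := by
    intro U
    have : IsNoetherianRing Γ(G, U) := IsLocallyNoetherian.component_noetherian U
    choose I hI using fun i =>
      (have := htᵢ i; GrpScheme.ClosedRepProd.exists_ideal_factor (tᵢ i) Γ(G, U) U.2.fromSpec)
    have hI' : ∀ i C φ, Cond p pG a y (z i) (Spec.map φ ≫ U.2.fromSpec) ↔ I i ≤ RingHom.ker φ.hom :=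
      fun i C φ => (hTᵢ i _ _).trans (hI i C φ)
    obtain ⟨_, ⟨k, rfl⟩, hk⟩ := (wellFounded_gt (α := Ideal Γ(G, U))).has_min
      (Set.range I) (Set.range_nonempty _)
    refine ⟨k, fun C φ hφ i => ?_⟩
    obtain ⟨m, ci, ck, hci, hck⟩ := hdir i k
    have hle : ∀ j (c : Z j ⟶ Z m), c ≫ z m = z j → I j ≤ I m := fun j c hc => by
      have h1 := (hI' m (CommRingCat.of (Γ(G, U) ⧸ I m)) (CommRingCat.ofHom (Ideal.Quotient.mk (I m)))).mpr
        Ideal.mk_ker.ge
      exact ((hI' j _ _).mp (h1.precomp c hc)).trans Ideal.mk_ker.le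
    have hmk : I m = I k := (eq_of_le_of_not_lt (hle k ck hck) (hk _ ⟨m, rfl⟩)).symm
    exact (hI' i C φ).mpr ((hle i ci hci).trans (hmk ▸ (hI' k C φ).mp hφ))
  choose k hk using hU
  obtain ⟨s, hs⟩ := isCompact_univ.elim_finite_subcover (fun U : G.affineOpens => (U.1 : Set G))
    (fun U => U.1.2) fun x _ => by
      obtain ⟨U, hU, hx, -⟩ := exists_isAffineOpen_mem_and_subset (X := G) (x := x) (U := ⊤) trivial
      exact Set.mem_iUnion.mpr ⟨⟨U, hU⟩, hx⟩
  obtain ⟨n, hn⟩ : ∃ n, ∀ U ∈ s, ∃ c : Z (k U) ⟶ Z n, c ≫ z n = z (k U) := by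
    clear hs
    induction s using Finset.induction_on with
    | empty => exact ⟨Classical.arbitrary ι, fun U hU => absurd hU (Finset.notMem_empty U)⟩
    | insert U₀ s _ ih =>
      obtain ⟨n, hn⟩ := ih
      obtain ⟨m, c₀, cn, h₀, hcn⟩ := hdir (k U₀) n
      refine ⟨m, fun U hU => ?_⟩
      rcases Finset.mem_insert.mp hU with rfl | hU
      · exact ⟨c₀, h₀⟩
      · obtain ⟨c, hc⟩ := hn U hU
        exact ⟨c ≫ cn, by rw [Category.assoc, hcn, hc]⟩
  refine ⟨n, fun T' g hg i => (hTᵢ i T' g).mpr ?_⟩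
  have := htᵢ i
  refine WeilLocus.exists_lift_of_pointwise (tᵢ i) g fun x => ?_
  obtain ⟨U, hUs, hxU⟩ := Set.mem_iUnion₂.mp (hs (Set.mem_univ (g x)))
  obtain ⟨V, hV, hxV, hVU⟩ := exists_isAffineOpen_mem_and_subset (X := T') (x := x) (U := g ⁻¹ᵁ U.1) hxU
  obtain ⟨c, hc⟩ := hn U hUs
  have h1 : Cond p pG a y (z (k U)) (Spec.map (g.appLE U.1 V hVU) ≫ U.2.fromSpec) := by
    rw [U.2.SpecMap_appLE_fromSpec g hV hVU]
    exact (hg.precomp c hc).comp _
  obtain ⟨l, hl⟩ := (hTᵢ i _ _).mp (hk U _ _ h1 i)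
  rw [U.2.SpecMap_appLE_fromSpec g hV hVU] at hl
  have := IsAffineOpen.isOpenImmersion_fromSpec hV
  exact ⟨_, hV.fromSpec, l, inferInstance, by rw [← Set.mem_range, hV.range_fromSpec]; exact hxV, hl⟩

end Groth.Agent.DiagRig.DenseFam
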