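import Groth.Agent.DiagRig.DenseFam.Alg
import Groth.Agent.DiagRig.WeilLocus.Basic
import Groth.Prelude

/-!
# Landing is detected by a fibrewise schematically dense flat family
-/

universe u

open CategoryTheory Limits AlgebraicGeometry
open scoped TensorProduct

noncomputable section

set_option backward.isDefEq.respectTransparency.types false
set_option maxHeartbeats 1000000

namespace Groth.Agent.DiagRig.DenseFam

variable {S X T : Scheme.{u}}

/-- The affine piece of a base change given by three affine opens. -/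
def piece {R B A : Type u} [CommRing R] [CommRing B] [CommRing A] [Algebra R B] [Algebra R A]
    (p : X ⟶ S) (g : T ⟶ S) (a : Spec (CommRingCat.of B) ⟶ X) (q : Spec (CommRingCat.of R) ⟶ S)
    (b : Spec (CommRingCat.of A) ⟶ T) (ha : Spec.map (CommRingCat.ofHom (algebraMap R B)) ≫ q = a ≫ p)
    (hb : Spec.map (CommRingCat.ofHom (algebraMap R A)) ≫ q = b ≫ g) :
    Spec (CommRingCat.of (A ⊗[R] B)) ⟶ pullback p g :=
  (pullbackSpecIso R A B).inv ≫ (pullbackSymmetry _ _).hom ≫ pullback.map _ _ p g a b q ha hb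

section Piece

variable {R B A : Type u} [CommRing R] [CommRing B] [CommRing A] [Algebra R B] [Algebra R A]
    (p : X ⟶ S) (g : T ⟶ S) (a : Spec (CommRingCat.of B) ⟶ X) (q : Spec (CommRingCat.of R) ⟶ S)
    (b : Spec (CommRingCat.of A) ⟶ T) (ha : Spec.map (CommRingCat.ofHom (algebraMap R B)) ≫ q = a ≫ p)
    (hb : Spec.map (CommRingCat.ofHom (algebraMap R A)) ≫ q = b ≫ g)

theorem piece_fst : piece p g a q b ha hb ≫ pullback.fst p g =
    Spec.map (CommRingCat.ofHom (Algebra.TensorProduct.includeRight : B →ₐ[R] A ⊗[R] B).toRingHom) ≫ a := by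
  simp only [piece, pullback.map, Category.assoc, pullback.lift_fst, pullbackSymmetry_hom_comp_fst_assoc]
  rw [← Category.assoc, pullbackSpecIso_inv_snd]
  rfl

theorem piece_snd : piece p g a q b ha hb ≫ pullback.snd p g =
    Spec.map (CommRingCat.ofHom (algebraMap A (A ⊗[R] B))) ≫ b := by
  simp only [piece, pullback.map, Category.assoc, pullback.lift_snd, pullbackSymmetry_hom_comp_snd_assoc]
  rw [← Category.assoc, pullbackSpecIso_inv_fst']

variable [IsOpenImmersion a] [IsOpenImmersion q] [IsOpenImmersion b]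

theorem isOpenImmersion_piece : IsOpenImmersion (piece p g a q b ha hb) := by
  unfold piece
  infer_instance

theorem mem_range_piece (w : ↥(pullback p g)) (h₁ : pullback.fst p g w ∈ Set.range a)
    (h₂ : pullback.snd p g w ∈ Set.range b) : ∃ v, piece p g a q b ha hb v = w := by
  obtain ⟨v, hv⟩ : w ∈ Set.range (pullback.map _ _ p g a b q ha hb) := by
    rw [Scheme.Pullback.range_map]
    exact ⟨h₁, h₂⟩
  refine ⟨(pullbackSpecIso R A B).hom ((pullbackSymmetry (Spec.map (CommRingCat.ofHom (algebraMap R A)))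
    (Spec.map (CommRingCat.ofHom (algebraMap R B)))).inv v), ?_⟩
  unfold piece
  rw [← Scheme.Hom.comp_apply, ← Scheme.Hom.comp_apply]
  simp only [Category.assoc, Iso.hom_inv_id_assoc, Iso.inv_hom_id_assoc]
  exact hv

end Piece

/-- Sections vanishing on open pieces covering their open vanish. -/
theorem eq_zero_of_pieces {X : Scheme.{u}} {V : X.Opens} (s : Γ(X, V))
    (h : ∀ x ∈ V, ∃ (U : Scheme.{u}) (j : U ⟶ X), IsOpenImmersion j ∧ (∃ u, j u = x) ∧ j.app V s = 0) : s = 0 := by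
  choose U j hj hu hs using h
  refine TopCat.Sheaf.eq_of_locally_eq' X.sheaf
    (fun x : {x // x ∈ V} => (have := hj x.1 x.2; (j x.1 x.2).opensRange) ⊓ V) V (fun _ => homOfLE inf_le_right)
    (fun x hx => TopologicalSpace.Opens.mem_iSup.mpr ⟨⟨x, hx⟩, hu x hx, hx⟩) s 0 fun x => ?_
  rw [map_zero]
  have := hj x.1 x.2
  have hiso := (j x.1 x.2).isIso_app ((j x.1 x.2).opensRange ⊓ V) inf_le_left
  apply ((ConcreteCategory.bijective_of_isIso ((j x.1 x.2).app ((j x.1 x.2).opensRange ⊓ V))).1)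
  refine Eq.trans ?_ (map_zero _).symm
  have hn := congr($((j x.1 x.2).naturality (homOfLE (inf_le_right : (j x.1 x.2).opensRange ⊓ V ≤ V)).op) s)
  refine hn.trans ?_
  show (U x.1 x.2).presheaf.map _ ((j x.1 x.2).app V s) = 0
  rw [hs, map_zero]

variable {ι : Type u} {Z : ι → Scheme.{u}}

/-- Fibrewise density, read in a chart. -/
theorem detect_fibre (p : X ⟶ S) (z : ∀ i, Z i ⟶ X)
    (hd : ∀ (s : S) (V : (p.fiber s).Opens) (t : Γ(p.fiber s, V)),
      (∀ i, (MoreMor.fiberMap (z i) p s).app V t = 0) → t = 0)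
    {W : S.Opens} (hW : IsAffineOpen W) {U : X.Opens} (hU : IsAffineOpen U) (hUW : U ≤ p ⁻¹ᵁ W)
    (s : S) [Algebra Γ(S, W) (S.residueField s)]
    (hs : Spec.map (CommRingCat.ofHom (algebraMap Γ(S, W) (S.residueField s))) ≫ hW.fromSpec =
      S.fromSpecResidueField s) :
    letI : Algebra Γ(S, W) Γ(X, U) := (p.appLE W U hUW).hom.toAlgebra
    ∀ w : (S.residueField s : Type u) ⊗[Γ(S, W)] Γ(X, U),
      (∀ (i : ι) (V : (Z i).Opens) (_ : IsAffineOpen V) (hV : V ≤ (z i) ⁻¹ᵁ U),
        letI : Algebra Γ(S, W) Γ(Z i, V) := ((z i ≫ p).appLE W V (hV.trans ((z i).preimage_mono hUW))).hom.toAlgebra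
        ∀ ψ : Γ(X, U) →ₐ[Γ(S, W)] Γ(Z i, V), ψ.toRingHom = ((z i).appLE U V hV).hom →
          Algebra.TensorProduct.map (AlgHom.id Γ(S, W) (S.residueField s)) ψ w = 0) → w = 0 := by
  letI : Algebra Γ(S, W) Γ(X, U) := (p.appLE W U hUW).hom.toAlgebra
  intro w hw
  let k : Type u := S.residueField s
  have : IsOpenImmersion hW.fromSpec := IsAffineOpen.isOpenImmersion_fromSpec hW
  have : IsOpenImmersion hU.fromSpec := IsAffineOpen.isOpenImmersion_fromSpec hU
  have e₁ : Spec.map (CommRingCat.ofHom (algebraMap Γ(S, W) Γ(X, U))) ≫ hW.fromSpec = hU.fromSpec ≫ p :=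
    hW.SpecMap_appLE_fromSpec p hU hUW
  have e₂ : Spec.map (CommRingCat.ofHom (algebraMap Γ(S, W) k)) ≫ hW.fromSpec =
      𝟙 (Spec (CommRingCat.of k)) ≫ S.fromSpecResidueField s := hs.trans (Category.id_comp _).symm
  let jF : Spec (CommRingCat.of (k ⊗[Γ(S, W)] Γ(X, U))) ⟶ p.fiber s :=
    piece p (S.fromSpecResidueField s) hU.fromSpec hW.fromSpec (𝟙 _) e₁ e₂
  have : IsOpenImmersion jF := isOpenImmersion_piece _ _ _ _ _ _ _
  let t : Γ(p.fiber s, jF ''ᵁ ⊤) := (jF.appIso ⊤).inv ((Scheme.ΓSpecIso _).inv w)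
  have ht : t = 0 := hd s _ t fun i => eq_zero_of_pieces _ fun v hv => by
    obtain ⟨w₀, -, hw₀⟩ := hv
    let v₁ : Z i := ((z i ≫ p).fiberι s) v
    have hvU : z i v₁ ∈ U := by
      have h1 : (MoreMor.fiberMap (z i) p s ≫ p.fiberι s) v = p.fiberι s (jF w₀) := by
        rw [Scheme.Hom.comp_apply]
        exact congrArg _ hw₀.symm
      have h2 : MoreMor.fiberMap (z i) p s ≫ p.fiberι s = (z i ≫ p).fiberι s ≫ z i := pullback.lift_fst _ _ _
      rw [h2, Scheme.Hom.comp_apply] at h1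
      rw [show z i v₁ = p.fiberι s (jF w₀) from h1, ← Scheme.Hom.comp_apply,
        show jF ≫ p.fiberι s = _ from piece_fst _ _ _ _ _ _ _, Scheme.Hom.comp_apply]
      exact hU.range_fromSpec.le ⟨_, rfl⟩
    obtain ⟨V, hV, hvV, hVU⟩ := exists_isAffineOpen_mem_and_subset (X := Z i) (x := v₁) (U := (z i) ⁻¹ᵁ U) hvU
    letI : Algebra Γ(S, W) Γ(Z i, V) := ((z i ≫ p).appLE W V (hVU.trans ((z i).preimage_mono hUW))).hom.toAlgebra
    let ψ : Γ(X, U) →ₐ[Γ(S, W)] Γ(Z i, V) :=
      { ((z i).appLE U V hVU).hom with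
        commutes' := fun r => congr(($(Scheme.Hom.appLE_comp_appLE (z i) p W U V hUW hVU)).hom r) }
    have hψ := hw i V hV hVU ψ rfl
    have : IsOpenImmersion hV.fromSpec := IsAffineOpen.isOpenImmersion_fromSpec hV
    have e₃ : Spec.map (CommRingCat.ofHom (algebraMap Γ(S, W) Γ(Z i, V))) ≫ hW.fromSpec = hV.fromSpec ≫ z i ≫ p :=
      hW.SpecMap_appLE_fromSpec (z i ≫ p) hV (hVU.trans ((z i).preimage_mono hUW))
    let jC : Spec (CommRingCat.of (k ⊗[Γ(S, W)] Γ(Z i, V))) ⟶ (z i ≫ p).fiber s :=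
      piece (z i ≫ p) (S.fromSpecResidueField s) hV.fromSpec hW.fromSpec (𝟙 _) e₃ e₂
    have hjC : IsOpenImmersion jC := isOpenImmersion_piece _ _ _ _ _ _ _
    refine ⟨_, jC, hjC, ?_, ?_⟩
    · refine mem_range_piece _ _ _ _ _ _ _ v ?_ ⟨_, rfl⟩
      rw [hV.range_fromSpec]
      exact hvV
    let Ψ : CommRingCat.of (k ⊗[Γ(S, W)] Γ(X, U)) ⟶ CommRingCat.of (k ⊗[Γ(S, W)] Γ(Z i, V)) :=
      CommRingCat.ofHom (Algebra.TensorProduct.map (AlgHom.id Γ(S, W) k) ψ).toRingHom
    have hcomm : jC ≫ MoreMor.fiberMap (z i) p s = Spec.map Ψ ≫ jF := by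
      have h1 : MoreMor.fiberMap (z i) p s ≫ p.fiberι s = (z i ≫ p).fiberι s ≫ z i := pullback.lift_fst _ _ _
      have h2 : MoreMor.fiberMap (z i) p s ≫ p.fiberToSpecResidueField s = (z i ≫ p).fiberToSpecResidueField s :=
        pullback.lift_snd _ _ _
      refine pullback.hom_ext ?_ ?_
      · show (_ ≫ _) ≫ p.fiberι s = (_ ≫ _) ≫ p.fiberι s
        rw [Category.assoc, h1, Category.assoc, ← Category.assoc jC,
          show jC ≫ (z i ≫ p).fiberι s = _ from piece_fst _ _ _ _ _ _ _,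
          show jF ≫ p.fiberι s = _ from piece_fst _ _ _ _ _ _ _, Category.assoc,
          ← hU.SpecMap_appLE_fromSpec (z i) hV hVU, ← Spec.map_comp_assoc, ← Spec.map_comp_assoc]
        congr 2
      · show (_ ≫ _) ≫ p.fiberToSpecResidueField s = (_ ≫ _) ≫ p.fiberToSpecResidueField s
        rw [Category.assoc, h2, Category.assoc, show jC ≫ (z i ≫ p).fiberToSpecResidueField s = _ from piece_snd _ _ _ _ _ _ _,
          show jF ≫ p.fiberToSpecResidueField s = _ from piece_snd _ _ _ _ _ _ _, ← Category.assoc (Spec.map Ψ), ← Spec.map_comp]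
        congr 2
        ext x
        exact ((Algebra.TensorProduct.map (AlgHom.id k k) ψ).commutes x).symm
    show ((MoreMor.fiberMap (z i) p s).app (jF ''ᵁ ⊤) ≫ jC.app _).hom t = 0
    rw [← Scheme.Hom.comp_app, Scheme.Hom.congr_app hcomm, Scheme.Hom.comp_app]
    simp only [t]
    erw [CommRingCat.comp_apply, CommRingCat.comp_apply]
    erw [show (jF.app (jF ''ᵁ ⊤)).hom ((jF.appIso ⊤).inv ((Scheme.ΓSpecIso _).inv w)) =
      (Spec (CommRingCat.of (k ⊗[Γ(S, W)] Γ(X, U)))).presheaf.map (eqToHom (jF.preimage_image_eq ⊤)).op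
        ((Scheme.ΓSpecIso _).inv w) from congr(($(jF.appIso_inv_app ⊤)).hom ((Scheme.ΓSpecIso _).inv w))]
    have h3 := congr(($((Spec.map Ψ).naturality (eqToHom (jF.preimage_image_eq ⊤)).op)).hom
      ((Scheme.ΓSpecIso (CommRingCat.of (k ⊗[Γ(S, W)] Γ(X, U)))).inv w))
    simp only [CommRingCat.comp_apply] at h3
    erw [h3]
    have h4 : (Spec.map Ψ).app ⊤ ((Scheme.ΓSpecIso (CommRingCat.of (k ⊗[Γ(S, W)] Γ(X, U)))).inv w) =
        (Scheme.ΓSpecIso (CommRingCat.of (k ⊗[Γ(S, W)] Γ(Z i, V)))).inv (Ψ w) :=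
      congr(($(Scheme.ΓSpecIso_inv_naturality Ψ)).hom w).symm
    erw [h4, show Ψ w = 0 from hψ]
    simp
  have h1 : (Scheme.ΓSpecIso (CommRingCat.of (k ⊗[Γ(S, W)] Γ(X, U)))).inv w = 0 :=
    (ConcreteCategory.bijective_of_isIso (jF.appIso ⊤).inv).1 (ht.trans (map_zero _).symm)
  exact (ConcreteCategory.bijective_of_isIso (Scheme.ΓSpecIso (CommRingCat.of (k ⊗[Γ(S, W)] Γ(X, U)))).inv).1
    (h1.trans (map_zero _).symm)

/-- If all members of a flat fibrewise dense family land, everything does. -/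
theorem lands_of_pieces (p : X ⟶ S) [LocallyOfFiniteType p] (z : ∀ i, Z i ⟶ X) [∀ i, Flat (z i ≫ p)]
    (hd : ∀ (s : S) (V : (p.fiber s).Opens) (t : Γ(p.fiber s, V)),
      (∀ i, (MoreMor.fiberMap (z i) p s).app V t = 0) → t = 0)
    [IsLocallyNoetherian T] (g : T ⟶ S) {X' Y : Scheme.{u}} (a : pullback p g ⟶ X') (y : Y ⟶ X')
    [IsClosedImmersion y]
    (hl : ∀ i (Q : Scheme.{u}) (h : Q ⟶ Z i) (x : Q ⟶ T) (e : (h ≫ z i) ≫ p = x ≫ g),
      ∃ l, l ≫ y = pullback.lift (h ≫ z i) x e ≫ a) :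
    ∃ l, l ≫ y = a := by
  refine WeilLocus.exists_lift_of_pointwise y _ fun w => ?_
  obtain ⟨W, hW, hwW, -⟩ := exists_isAffineOpen_mem_and_subset (X := S) (x := p (pullback.fst p g w)) (U := ⊤) trivial
  obtain ⟨U, hU, hwU, hUW⟩ := exists_isAffineOpen_mem_and_subset (X := X) (x := pullback.fst p g w)
    (U := p ⁻¹ᵁ W) hwW
  obtain ⟨TA, hTA, hwT, hTW⟩ := exists_isAffineOpen_mem_and_subset (X := T) (x := pullback.snd p g w)
    (U := g ⁻¹ᵁ W) (by
      show g (pullback.snd p g w) ∈ W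
      rw [← Scheme.Hom.comp_apply, ← pullback.condition, Scheme.Hom.comp_apply]
      exact hwW)
  let R : Type u := Γ(S, W)
  let B : Type u := Γ(X, U)
  let A : Type u := Γ(T, TA)
  letI : Algebra R B := (p.appLE W U hUW).hom.toAlgebra
  letI : Algebra R A := (g.appLE W TA hTW).hom.toAlgebra
  have : IsNoetherianRing A := IsLocallyNoetherian.component_noetherian ⟨TA, hTA⟩
  have : Algebra.FiniteType R B :=
    RingHom.finiteType_algebraMap.mp (p.finiteType_appLE hW hU hUW)
  have : IsOpenImmersion hW.fromSpec := IsAffineOpen.isOpenImmersion_fromSpec hW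
  have : IsOpenImmersion hU.fromSpec := IsAffineOpen.isOpenImmersion_fromSpec hU
  have : IsOpenImmersion hTA.fromSpec := IsAffineOpen.isOpenImmersion_fromSpec hTA
  have e₁ : Spec.map (CommRingCat.ofHom (algebraMap R B)) ≫ hW.fromSpec = hU.fromSpec ≫ p :=
    hW.SpecMap_appLE_fromSpec p hU hUW
  have e₂ : Spec.map (CommRingCat.ofHom (algebraMap R A)) ≫ hW.fromSpec = hTA.fromSpec ≫ g :=
    hW.SpecMap_appLE_fromSpec g hTA hTW
  let m := piece p g hU.fromSpec hW.fromSpec hTA.fromSpec e₁ e₂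
  have : IsOpenImmersion m := isOpenImmersion_piece _ _ _ _ _ _ _
  obtain ⟨J, hJ⟩ := GrpScheme.ClosedRepProd.exists_ideal_factor y (CommRingCat.of (A ⊗[R] B)) (m ≫ a)
  let κ := Σ i, {V : (Z i).affineOpens // V.1 ≤ (z i) ⁻¹ᵁ U}
  letI algC : ∀ c : κ, Algebra R Γ(Z c.1, c.2.1) := fun c =>
    ((z c.1 ≫ p).appLE W c.2.1 (c.2.2.trans ((z c.1).preimage_mono hUW))).hom.toAlgebra
  have : ∀ c : κ, Module.Flat R Γ(Z c.1, c.2.1) := fun c =>
    RingHom.flat_algebraMap_iff.mp
      ((z c.1 ≫ p).flat_appLE hW c.2.1.2 (c.2.2.trans ((z c.1).preimage_mono hUW)))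
  let φ : ∀ c : κ, B →ₐ[R] Γ(Z c.1, c.2.1) := fun c =>
    { ((z c.1).appLE U c.2.1 c.2.2).hom with
      commutes' := fun r => congr(($(Scheme.Hom.appLE_comp_appLE (z c.1) p W U c.2.1 hUW c.2.2)).hom r) }
  have hJ0 : ∀ x ∈ J, x = (0 : A ⊗[R] B) := by
    intro x hx
    refine eq_zero_of_dense φ (fun P hP w hw => ?_) _ fun c => ?_
    · let K := IsLocalRing.ResidueField (Localization.AtPrime P)
      let pt : Spec (CommRingCat.of K) ⟶ S := Spec.map (CommRingCat.ofHom (algebraMap R K)) ≫ hW.fromSpec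
      let s : S := (Scheme.SpecToEquivOfField K S pt).1
      let χ : S.residueField s ⟶ CommRingCat.of K := (Scheme.SpecToEquivOfField K S pt).2
      have hpt : pt = Spec.map χ ≫ S.fromSpecResidueField s :=
        ((Scheme.SpecToEquivOfField K S).symm_apply_apply pt).symm
      have hsW : s ∈ W := by
        let c₀ : ↥(Spec (CommRingCat.of K)) := (default : PrimeSpectrum K)
        have h1 : pt c₀ = s := by
          rw [hpt, Scheme.Hom.comp_apply]
          exact Scheme.fromSpecResidueField_apply _ _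
        rw [← h1]
        exact hW.range_fromSpec.le ⟨_, rfl⟩
      let θ : Spec (S.residueField s) ⟶ Spec (CommRingCat.of R) := IsOpenImmersion.lift hW.fromSpec
        (S.fromSpecResidueField s) (by
          rintro _ ⟨v, rfl⟩
          rw [hW.range_fromSpec]
          show S.fromSpecResidueField s v ∈ W
          rw [Scheme.fromSpecResidueField_apply]
          exact hsW)
      letI algk : Algebra R (S.residueField s) := (Spec.preimage θ).hom.toAlgebra
      have hθ : Spec.map (CommRingCat.ofHom (algebraMap R (S.residueField s))) ≫ hW.fromSpec =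
          S.fromSpecResidueField s := by
        show Spec.map (Spec.preimage θ) ≫ _ = _
        rw [Spec.map_preimage]
        exact IsOpenImmersion.lift_fac _ _ _
      letI : Algebra (S.residueField s) K := χ.hom.toAlgebra
      have : IsScalarTower R (S.residueField s) K := by
        refine IsScalarTower.of_algebraMap_eq' ?_
        have h1 : CommRingCat.ofHom (algebraMap R (S.residueField s)) ≫ χ = CommRingCat.ofHom (algebraMap R K) := by
          apply Spec.map_injective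
          rw [← cancel_mono hW.fromSpec, Spec.map_comp, Category.assoc, hθ, ← hpt]
        exact congrArg CommRingCat.Hom.hom h1.symm
      refine detect_extend (k := (S.residueField s : Type u)) φ (fun w' hw' => ?_) w hw
      refine detect_fibre p z hd hW hU hUW s hθ w' fun i V hV hVU => ?_
      letI : Algebra Γ(S, W) Γ(Z i, V) := algC ⟨i, ⟨V, hV⟩, hVU⟩
      intro ψ hψ
      have : ψ = φ ⟨i, ⟨V, hV⟩, hVU⟩ := AlgHom.coe_ringHom_injective hψ
      rw [this]
      exact hw' _
    · have hV := c.2.1.2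
      have hVU := c.2.2
      have : IsOpenImmersion hV.fromSpec := IsAffineOpen.isOpenImmersion_fromSpec hV
      have e₃ : Spec.map (CommRingCat.ofHom (algebraMap R Γ(Z c.1, c.2.1))) ≫ hW.fromSpec =
          hV.fromSpec ≫ z c.1 ≫ p :=
        hW.SpecMap_appLE_fromSpec (z c.1 ≫ p) hV (hVU.trans ((z c.1).preimage_mono hUW))
      let mC := piece (z c.1 ≫ p) g hV.fromSpec hW.fromSpec hTA.fromSpec e₃ e₂
      have e₄ : ((mC ≫ pullback.fst _ _) ≫ z c.1) ≫ p = (mC ≫ pullback.snd _ _) ≫ g := by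
        simp only [Category.assoc, pullback.condition]
      obtain ⟨l, hl⟩ := hl c.1 _ (mC ≫ pullback.fst _ _) (mC ≫ pullback.snd _ _) e₄
      let χ : CommRingCat.of (A ⊗[R] B) ⟶ CommRingCat.of (A ⊗[R] Γ(Z c.1, c.2.1)) :=
        CommRingCat.ofHom (Algebra.TensorProduct.map (AlgHom.id R A) (φ c)).toRingHom
      have hχ : pullback.lift _ _ e₄ = Spec.map χ ≫ m := by
        have f1 : mC ≫ pullback.fst (z c.1 ≫ p) g = _ :=
          piece_fst (z c.1 ≫ p) g hV.fromSpec hW.fromSpec hTA.fromSpec e₃ e₂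
        have f2 : mC ≫ pullback.snd (z c.1 ≫ p) g = _ :=
          piece_snd (z c.1 ≫ p) g hV.fromSpec hW.fromSpec hTA.fromSpec e₃ e₂
        refine pullback.hom_ext ?_ ?_
        · rw [pullback.lift_fst, Category.assoc, Category.assoc, reassoc_of% f1,
            show m ≫ pullback.fst p g = _ from piece_fst p g hU.fromSpec hW.fromSpec hTA.fromSpec e₁ e₂,
            ← hU.SpecMap_appLE_fromSpec (z c.1) hV hVU, ← Spec.map_comp_assoc, ← Spec.map_comp_assoc]
          congr 2
        · rw [pullback.lift_snd, f2, Category.assoc,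
            show m ≫ pullback.snd p g = _ from piece_snd p g hU.fromSpec hW.fromSpec hTA.fromSpec e₁ e₂, ← Spec.map_comp_assoc]
          congr 2
          ext x
          exact ((Algebra.TensorProduct.map (AlgHom.id A A) (φ c)).commutes x).symm
      have h1 := (hJ _ χ).mp ⟨l, by rw [hl, hχ, Category.assoc]⟩ hx
      exact h1
  obtain ⟨l, hl⟩ := (hJ (CommRingCat.of (A ⊗[R] B)) (𝟙 _)).mpr fun x hx => hJ0 x hx
  refine ⟨_, m, l, inferInstance, mem_range_piece _ _ _ _ _ _ _ w ?_ ?_, ?_⟩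
  · rw [hU.range_fromSpec]; exact hwU
  · rw [hTA.range_fromSpec]; exact hwT
  · rw [hl, Spec.map_id, Category.id_comp]

end Groth.Agent.DiagRig.DenseFam
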