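import Groth.Agent.DiagRig.DenseFam.Closed

/-!
# Kernels of powers as a directed family
-/

set_option autoImplicit false

universe u

open CategoryTheory Limits AlgebraicGeometry MonoidalCategory CartesianMonoidalCategory MonObj

noncomputable section

set_option backward.isDefEq.respectTransparency.types false

namespace Groth.Agent.DiagRig.DenseFam

variable {S : Scheme.{u}} (H : Over S) [GrpObj H]

/-- The inclusion of the kernel of the `n`-th power. -/
abbrev ker (n : ℕ) : pullback η[H].left (𝟙 H ^ n : H ⟶ H).left ⟶ H.left :=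
  pullback.snd η[H].left (𝟙 H ^ n : H ⟶ H).left

theorem exists_ker_map (m n : ℕ) :
    ∃ c : pullback η[H].left (𝟙 H ^ m : H ⟶ H).left ⟶ pullback η[H].left (𝟙 H ^ (m * n) : H ⟶ H).left,
      c ≫ ker H (m * n) = ker H m := by
  have h1 : (𝟙 H ^ (m * n) : H ⟶ H) = (𝟙 H ^ m) ≫ (𝟙 H ^ n) := by
    rw [comp_pow, Category.comp_id, pow_mul]
  have h2 : η[H] ≫ (𝟙 H ^ n : H ⟶ H) = η[H] := by
    rw [comp_pow, Category.comp_id,
      show η[H] = (1 : 𝟙_ (Over S) ⟶ H) by rw [Hom.one_def, toUnit_unique (toUnit _) (𝟙 _), Category.id_comp],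
      one_pow]
  refine ⟨pullback.lift (pullback.fst _ _) (ker H m) ?_, pullback.lift_snd _ _ _⟩
  rw [h1, Over.comp_left, ← Category.assoc, show ker H m ≫ (𝟙 H ^ m : H ⟶ H).left = _ from pullback.condition.symm,
    Category.assoc, ← Over.comp_left, h2]

theorem hdir (E : Set ℕ) (hmul : ∀ m ∈ E, ∀ n ∈ E, m * n ∈ E) (i j : ULift.{u} {n : ℕ // n ∈ E}) :
    ∃ (k : ULift.{u} {n : ℕ // n ∈ E})
      (ci : pullback η[H].left (𝟙 H ^ i.down.1 : H ⟶ H).left ⟶ pullback η[H].left (𝟙 H ^ k.down.1 : H ⟶ H).left)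
      (cj : pullback η[H].left (𝟙 H ^ j.down.1 : H ⟶ H).left ⟶ pullback η[H].left (𝟙 H ^ k.down.1 : H ⟶ H).left),
      ci ≫ ker H k.down.1 = ker H i.down.1 ∧ cj ≫ ker H k.down.1 = ker H j.down.1 := by
  obtain ⟨ci, hi⟩ := exists_ker_map H i.down.1 j.down.1
  obtain ⟨cj, hj⟩ : ∃ c : pullback η[H].left (𝟙 H ^ j.down.1 : H ⟶ H).left ⟶
      pullback η[H].left (𝟙 H ^ (i.down.1 * j.down.1) : H ⟶ H).left,
      c ≫ ker H (i.down.1 * j.down.1) = ker H j.down.1 := by
    rw [mul_comm i.down.1]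
    exact exists_ker_map H _ _
  exact ⟨⟨⟨_, hmul _ i.down.2 _ j.down.2⟩⟩, ci, cj, hi, hj⟩

/-- A point of the kernel of the `n`-th power. -/
theorem pow_eq_one_iff {X : Over S} (h : X ⟶ H) (n : ℕ) :
    h ^ n = 1 ↔ ∃ q : X.left ⟶ pullback η[H].left (𝟙 H ^ n : H ⟶ H).left, q ≫ ker H n = h.left := by
  have h1 : h ^ n = h ≫ (𝟙 H ^ n : H ⟶ H) := by rw [comp_pow, Category.comp_id]
  rw [h1, Hom.one_def]
  refine ⟨fun e => ⟨pullback.lift (toUnit X).left h.left (by rw [← Over.comp_left, ← Over.comp_left, e]),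
    pullback.lift_snd _ _ _⟩, fun ⟨q, hq⟩ => Over.OverMorphism.ext ?_⟩
  have hw : η[H].left ≫ H.hom = 𝟙 S := Over.w η[H]
  have hu : q ≫ pullback.fst η[H].left (𝟙 H ^ n : H ⟶ H).left = (toUnit X).left := by
    have e1 : q ≫ pullback.fst η[H].left (𝟙 H ^ n : H ⟶ H).left = X.hom := by
      rw [← Category.comp_id (q ≫ _)]
      erw [← hw]
      rw [Category.assoc, pullback.condition_assoc, ← Category.assoc q, hq, Over.w, Over.w]
    exact e1.trans (Over.w (toUnit X)).symm |>.trans (Category.comp_id _)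
  rw [Over.comp_left, Over.comp_left, ← hq, Category.assoc, ← pullback.condition, ← Category.assoc, hu]

end Groth.Agent.DiagRig.DenseFam
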